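import Groth.Agent.Fano.K949.ChartGlue
import Groth.Agent.Fano.K123.ConA

/-!
# Structure of plane conics over any base

* `cd_of_isCon`; `flat_isProper` (K3); `existsUnique_sec` (K4a); `van_iff_dvd` (K4b); `appTop_bijective` (K4c).
-/

set_option autoImplicit false

universe u

open CategoryTheory CategoryTheory.Limits AlgebraicGeometry TopologicalSpace

namespace K949.ConB

open K390.PnSec Groth.Agent.Fdesc.LocGen Groth.Agent.Dix.ProjProper
open K188.LineDef K188.MapP1 K745.ConDef K949.ConAlg K949.Chart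

variable {T C : Scheme.{u}} {c : Fin 5 → Γ(T, ⊤)} {f : C ⟶ T} {L : C.Modules} {x : Fin 3 → Γ(L, ⊤)}

theorem cd_of_isCon (h : IsCon c f L x) : CD c f x := by
  have h' := h
  obtain ⟨ι, rfl, hL, hι⟩ := h
  refine ⟨?_, hL.iSup_genLocus, ?_, fun g M hM y hy hv => K123.ConA.existsUnique_hom h' g M hM y hy hv⟩
  · obtain ⟨τ, -⟩ := hL
    intro t
    obtain ⟨U, hx, ⟨e'⟩⟩ := isInvertible_pullback (ι ≫ toZ 2 T) (isInvertible_O1 2 Z.{u}) t
    exact ⟨U, hx, ⟨(Scheme.Modules.restrictFunctor U.ι).mapIso τ.symm ≪≫ e'⟩⟩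
  · have h1 := (hι.exists_iff ι).1 ⟨𝟙 _, Category.id_comp _⟩
    exact (K123.ConA.van_iff_of_givenBy (K123.ConA.givenBy_crd ι rfl) hL _ _).1 h1

theorem flat_chart (h : CD c f x) {V : T.Opens} (hV : IsAffineOpen V) :
    Flat ((UV f x V).ι ≫ f) ∧ LocallyOfFinitePresentation ((UV f x V).ι ≫ f) := by
  rw [← theta_gm hV h, gm]
  have h1 := isIso_theta h hV
  have h2 : Flat (Spec.map (CommRingCat.ofHom (algebraMap Γ(T, V) (B (cV c V))))) := by
    rw [Flat.SpecMap_iff]
    exact RingHom.flat_algebraMap_iff.2 (flat_B _)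
  have h3 : LocallyOfFinitePresentation (Spec.map (CommRingCat.ofHom (algebraMap Γ(T, V) (B (cV c V))))) := by
    rw [LocallyOfFinitePresentation.SpecMap_iff]
    exact RingHom.finitePresentation_algebraMap.2 (finitePresentation_B _)
  exact ⟨inferInstance, inferInstance⟩

theorem exists_chart (h : CD c f x) (t : C) : ∃ V : T.Opens, IsAffineOpen V ∧
    (t ∈ UV f x V ∨ t ∈ UV f (sx x) V) := by
  obtain ⟨V, hV, hm, -⟩ := exists_isAffineOpen_mem_and_subset (show f t ∈ (⊤ : T.Opens) from trivial)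
  refine ⟨V, hV, ?_⟩
  rcases h.mem_gl t with h1 | h1
  · exact Or.inl ⟨h1, hm⟩
  · exact Or.inr ⟨h1, hm⟩

theorem exists_open (h : CD c f x) (t : C) : ∃ U : C.Opens, t ∈ U ∧ Flat (U.ι ≫ f) ∧
    LocallyOfFinitePresentation (U.ι ≫ f) := by
  obtain ⟨V, hV, h1 | h1⟩ := exists_chart h t
  · exact ⟨_, h1, flat_chart h hV⟩
  · exact ⟨_, h1, flat_chart h.swap hV⟩

/-- Node K3: conics are flat, proper and of finite presentation over the base. -/
theorem flat_isProper (h : IsCon c f L x) : Flat f ∧ IsProper f ∧ LocallyOfFinitePresentation f := by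
  have hc := cd_of_isCon h
  choose U hU hfl hlfp using exists_open hc
  have hcov : ⨆ t, U t = ⊤ := by
    rw [eq_top_iff]
    exact fun t _ => Opens.mem_iSup.2 ⟨t, hU t⟩
  refine ⟨?_, ?_, ?_⟩
  · exact IsZariskiLocalAtSource.of_iSup_eq_top U hcov hfl
  · obtain ⟨ι, rfl, -, hι⟩ := h
    have := hι.isClosedImmersion
    have : IsProper (pr2 T) := isProper_toBase 2 T
    infer_instance
  · exact IsZariskiLocalAtSource.of_iSup_eq_top U hcov hlfp

theorem eval₂_nf_one {A R : Type u} [CommRing A] [CommRing R] (ρ : A →+* R) (y : Fin 3 → R) (a b : ℕ → A) :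
    MvPolynomial.eval₂ ρ y (nf 1 a b) = ρ (b 0) * y 0 + ρ (a 0) * y 1 + ρ (a 1) * y 2 := by
  rw [nf, ← MvPolynomial.coe_eval₂Hom]
  simp [Finset.sum_range_succ]
  ring

theorem eval₂_nf_zero {A R : Type u} [CommRing A] [CommRing R] (ρ : A →+* R) (y : Fin 3 → R) (a b : ℕ → A) :
    MvPolynomial.eval₂ ρ y (nf 0 a b) = ρ (a 0) := by
  rw [nf, ← MvPolynomial.coe_eval₂Hom]
  simp

theorem ores_app {V : T.Opens} (a : Γ(T, V)) : ores (inf_le_right : UV f x V ≤ f ⁻¹ᵁ V) (f.app V a) = rho f x V a :=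
  rfl

theorem res_lc_left {V : T.Opens} (a : Fin 3 → Γ(T, V)) :
    res L (inf_le_right : UV f x V ≤ f ⁻¹ᵁ V) (lc f x V a) =
      (rho f x V (a 0) * ores inf_le_left (cw x) + rho f x V (a 1) * 1 +
        rho f x V (a 2) * ores inf_le_left (cs x)) • res L (le_top : UV f x V ≤ ⊤) (x 1) := by
  rw [lc, map_sum, Fin.sum_univ_three]
  simp only [res_smul, res_res, ores_app]
  rw [res_x0' (inf_le_left : UV f x V ≤ gl (x 1)), res_x2' (inf_le_left : UV f x V ≤ gl (x 1)), smul_smul, smul_smul,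
    ← add_smul, ← add_smul, mul_one]

theorem res_lc_right {V : T.Opens} (a : Fin 3 → Γ(T, V)) :
    res L (inf_le_right : UV f (sx x) V ≤ f ⁻¹ᵁ V) (lc f x V a) =
      (rho f (sx x) V (a 0) * ores inf_le_left (cw (sx x)) + rho f (sx x) V (a 1) * ores inf_le_left (cs (sx x)) +
        rho f (sx x) V (a 2) * 1) • res L (le_top : UV f (sx x) V ≤ ⊤) (x 2) := by
  have h1 : lc f x V a = lc f (sx x) V (sx a) := by
    rw [lc, lc, Fin.sum_univ_three, Fin.sum_univ_three]
    simp only [sx, Matrix.cons_val_zero, Matrix.cons_val_one, Matrix.cons_val]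
    rw [add_assoc, add_assoc]
    congr 1
    exact add_comm _ _
  rw [h1, res_lc_left (x := sx x)]
  simp only [sx, Matrix.cons_val_zero, Matrix.cons_val_one, Matrix.cons_val]
  congr 1
  exact add_right_comm _ _ _

theorem res_ext_chart (h : CD c f x) {M : C.Modules} {V : T.Opens} {s t : Γ(M, f ⁻¹ᵁ V)}
    (h1 : res M (inf_le_right : UV f x V ≤ f ⁻¹ᵁ V) s = res M inf_le_right t)
    (h2 : res M (inf_le_right : UV f (sx x) V ≤ f ⁻¹ᵁ V) s = res M inf_le_right t) : s = t := by
  refine res_ext M (fun b : Bool => if b then UV f x V else UV f (sx x) V) (fun b => ?_) ?_ fun b => ?_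
  · cases b
    · exact (inf_le_right : UV f (sx x) V ≤ f ⁻¹ᵁ V)
    · exact (inf_le_right : UV f x V ≤ f ⁻¹ᵁ V)
  · intro z hz
    rcases h.mem_gl z with h3 | h3
    · exact Opens.mem_iSup.2 ⟨true, (⟨h3, hz⟩ : z ∈ UV f x V)⟩
    · exact Opens.mem_iSup.2 ⟨false, (⟨h3, hz⟩ : z ∈ UV f (sx x) V)⟩
  · cases b
    · exact h2
    · exact h1

/-- Node K4a: the sections of `O(1)` on a conic over an arbitrary base. -/
theorem existsUnique_sec (h : IsCon c f L x) (s : Γ(L, ⊤)) :
    ∃! a : Fin 3 → Γ(T, ⊤), s = ∑ i, (f.appTop (a i)) • x i := by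
  have hc := cd_of_isCon h
  refine existsUnique_of_affine (κ := Fin 3) ?_ ?_ s
  · intro V hV a ha
    have h1 := congrArg (res L (inf_le_right : UV f x V ≤ f ⁻¹ᵁ V)) ha
    rw [res_lc_left, map_zero] at h1
    have h2 := (isGen_x1 (inf_le_left : UV f x V ≤ gl (x 1))).ext (h1.trans (zero_smul _ _).symm)
    have h3 := eval₂_nf_one (rho f x V) ![ores inf_le_left (cw x), 1, ores inf_le_left (cs x)]
      (fun k => if k = 0 then a 1 else a 2) (fun _ => a 0)
    have h4 := eq_zero_of_nf hc hV (h3.trans h2)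
    funext i
    fin_cases i
    · exact h4.2 0 (by omega)
    · exact h4.1 0 (by omega)
    · exact h4.1 1 (by omega)
  · intro V hV s
    obtain ⟨g₁, hg₁⟩ := (isGen_x1 (inf_le_left : UV f x V ≤ gl (x 1))).exists_eq (res L le_top s)
    obtain ⟨g₂, hg₂⟩ := (isGen_x1 (inf_le_left : UV f (sx x) V ≤ gl (sx x 1))).exists_eq (res L le_top s)
    have hW1 : W12 f x V ≤ gl (x 1) := inf_le_left.trans inf_le_left
    have hg : ores (inf_le_left : W12 f x V ≤ UV f x V) g₁ =
        ores (inf_le_left.trans inf_le_left : W12 f x V ≤ gl (x 1)) (cs x) ^ 1 *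
          ores (inf_le_right : W12 f x V ≤ UV f (sx x) V) g₂ := by
      refine (isGen_x1 hW1).ext ?_
      have h1 := congrArg (res L (inf_le_left : W12 f x V ≤ UV f x V)) hg₁
      have h2 := congrArg (res L (inf_le_right : W12 f x V ≤ UV f (sx x) V)) hg₂
      rw [res_smul, res_res, res_res] at h1 h2
      have h3 := res_x2' (x := x) hW1
      rw [pow_one, mul_comm, mul_smul, ← h3, ← h1, h2]
      rfl
    obtain ⟨a, b, h1, h2⟩ := exists_nf_of_glue hc hV 1 g₁ g₂ hg
    rw [eval₂_nf_one] at h1 h2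
    refine ⟨![b 0, a 0, a 1], res_ext_chart hc ?_ ?_⟩
    · rw [res_lc_left, res_res, hg₁, h1]
      rfl
    · rw [res_lc_right, res_res, hg₂, h2]
      rfl

/-- Node K4b: the forms vanishing on a conic over an arbitrary base. -/
theorem van_iff_dvd (h : IsCon c f L x) {m : ℕ} (F : MvPolynomial (Fin 3) Γ(T, ⊤)) (hF : F.IsHomogeneous m) :
    Van f x F ↔ qf c ∣ F := by
  have hc := cd_of_isCon h
  constructor
  · intro hv
    obtain ⟨H, a, b, rfl⟩ := exists_nf c hF
    have key : ∀ V : T.Opens, IsAffineOpen V → (∀ k, k ≤ m → ores (le_top : V ≤ ⊤) (a k) = 0) ∧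
        ∀ k, k < m → ores (le_top : V ≤ ⊤) (b k) = 0 := by
      intro V hV
      refine eq_zero_of_nf hc hV (a := fun k => ores le_top (a k)) (b := fun k => ores le_top (b k)) ?_
      have h1 := hv _ _ _ (isGen_x1 (inf_le_left : UV f x V ≤ gl (x 1))) (res_x inf_le_left)
      have h2 := hc.van _ _ _ (isGen_x1 (inf_le_left : UV f x V ≤ gl (x 1))) (res_x inf_le_left)
      rw [MvPolynomial.eval₂_add, MvPolynomial.eval₂_mul, h2, mul_zero, zero_add] at h1
      have h3 : (rho f x V).comp (ores (le_top : V ≤ ⊤)) = ρV f (UV f x V) := by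
        ext a
        exact rho_ores f x V a
      rw [← h3, ← MvPolynomial.eval₂_map, map_nf] at h1
      exact h1
    choose V hV hVm hVW using fun t : T => exists_isAffineOpen_mem_and_subset (show t ∈ (⊤ : T.Opens) from trivial)
    have hcov : (⊤ : T.Opens) ≤ ⨆ t, V t := fun t _ => Opens.mem_iSup.2 ⟨t, hVm t⟩
    have ha : ∀ k, k ≤ m → a k = 0 := fun k hk => ores_ext V (fun t => le_top) hcov fun t => by
      rw [(key _ (hV t)).1 k hk, map_zero]
    have hb : ∀ k, k < m → b k = 0 := fun k hk => ores_ext V (fun t => le_top) hcov fun t => by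
      rw [(key _ (hV t)).2 k hk, map_zero]
    have hnf : nf m a b = 0 := by
      rw [nf, Finset.sum_eq_zero, Finset.sum_eq_zero, add_zero]
      · intro k hk
        rw [hb k (Finset.mem_range.1 hk), map_zero, zero_mul]
      · intro k hk
        rw [ha k (by rw [Finset.mem_range] at hk; omega), map_zero, zero_mul]
    rw [hnf, add_zero]
    exact Dvd.intro_left H rfl
  · rintro ⟨H, rfl⟩ V e a he ha
    rw [MvPolynomial.eval₂_mul, hc.van V e a he ha, zero_mul]

/-- Node K4c: the functions on a conic over an arbitrary base. -/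
theorem appTop_bijective (h : IsCon c f L x) : Function.Bijective f.appTop := by
  have hc := cd_of_isCon h
  have key : ∀ s : Γ(Coh.structureModule C, ⊤), ∃! a : Unit → Γ(T, ⊤), s = ∑ i, (f.appTop (a i)) • one ⊤ := by
    refine fun s => existsUnique_of_affine (κ := Unit) (y := fun _ => one ⊤) ?_ ?_ s
    · intro V hV a ha
      have h0 : lc f (fun _ : Unit => (one ⊤ : Γ(Coh.structureModule C, ⊤))) V a = (f.app V (a ())) • one (f ⁻¹ᵁ V) := by
        simp [lc, res_one]
      rw [h0] at ha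
      have h1 := (isGen_one (f ⁻¹ᵁ V)).ext (ha.trans (zero_smul _ _).symm)
      have h2 : rho f x V (a ()) = 0 := by
        rw [← ores_app, h1, map_zero]
      have h3 := eval₂_nf_zero (rho f x V) ![ores inf_le_left (cw x), 1, ores inf_le_left (cs x)]
        (fun _ => a ()) (fun _ => 0)
      have h4 := eq_zero_of_nf hc hV (h3.trans h2)
      funext i
      exact h4.1 0 le_rfl
    · intro V hV s
      obtain ⟨z, rfl⟩ := ofFun.surjective s
      obtain ⟨a, b, h1, h2⟩ := exists_nf_of_glue hc hV 0 (ores le_top z) (ores le_top z) (by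
        rw [pow_zero, one_mul, ores_ores, ores_ores])
      rw [eval₂_nf_zero] at h1 h2
      refine ⟨fun _ => a 0, ?_⟩
      have h0 : lc f (fun _ : Unit => (one ⊤ : Γ(Coh.structureModule C, ⊤))) V (fun _ => a 0) =
          (f.app V (a 0)) • one (f ⁻¹ᵁ V) := by
        simp [lc, res_one]
      rw [h0, ← ofFun_eq_smul]
      refine res_ext_chart hc ?_ ?_
      · rw [res_res, res_ofFun, res_ofFun, ores_app, h1]
      · rw [res_res, res_ofFun, res_ofFun]
        exact congrArg _ h2
  have hsum : ∀ a : Unit → Γ(T, ⊤), ∑ i, (f.appTop (a i)) • (one ⊤ : Γ(Coh.structureModule C, ⊤)) =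
      ofFun (f.appTop (a ())) := by
    intro a
    rw [ofFun_eq_smul]
    simp
  constructor
  · intro a b hab
    have h1 := (key (ofFun (f.appTop a))).unique (y₁ := fun _ => a) (y₂ := fun _ => b)
      (hsum (fun _ => a)).symm ((congrArg ofFun hab).trans (hsum (fun _ => b)).symm)
    exact congrFun h1 ()
  · intro z
    obtain ⟨a, ha, -⟩ := key (ofFun z)
    have h1 : ofFun z = ofFun (f.appTop (a ())) := ha.trans (hsum a)
    exact ⟨a (), (ofFun.injective h1).symm⟩

end K949.ConB
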