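import Groth.Agent.Fano.K949.ConAlg
import Groth.Agent.Fano.K123.Van
import Groth.Agent.Fano.K188.LinFun
import Groth.Agent.Fdesc.LocGenTensor

/-!
# Plane conics: the chart `gl (x 1)`

* `CD c f x`: what is used of a conic (symmetric in the last two variables: `CD.swap`);
* `cs x`, `cw x : Γ(C, gl (x 1))`: `x_2 = s x_1`, `x_0 = w x_1`; `eqn`: their equation;
* `CD.hom_ext`, `CD.exists_hom`: the functor of points of `gl (x 1)`.
-/

set_option autoImplicit false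

universe u

open CategoryTheory CategoryTheory.Limits AlgebraicGeometry TopologicalSpace

namespace K949.Chart

open K390.PnSec Groth.Agent.Fdesc.LocGen Groth.Agent.Dix.ProjProper
open K188.LineDef K188.MapP1 K745.ConDef K949.ConAlg

variable {T C Y : Scheme.{u}}

/-- What is used of a conic. -/
structure CD (c : Fin 5 → Γ(T, ⊤)) (f : C ⟶ T) {L : C.Modules} (x : Fin 3 → Γ(L, ⊤)) : Prop where
  inv : PicF.IsInvertible L
  gens : Gens x
  van : Van f x (qf c)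
  up : ∀ {Y : Scheme.{u}} (g : Y ⟶ T) (M : Y.Modules) (_ : PicF.IsInvertible M) (y : Fin 3 → Γ(M, ⊤))
    (_ : Gens y) (_ : Van g y (qf c)), ∃! r : Y ⟶ C, r ≫ f = g ∧
      ∃ τ : (Scheme.Modules.pullback r).obj L ≅ M, ∀ i, τ.hom.app ⊤ (pullTop r (x i)) = y i

/-- Exchange of the last two variables. -/
def sx {α : Type*} (x : Fin 3 → α) : Fin 3 → α := ![x 0, x 2, x 1]

@[simp] theorem sx_sx {α : Type*} (x : Fin 3 → α) : sx (sx x) = x := by
  funext i
  fin_cases i <;> rfl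

theorem forall_sx {α β : Type*} {x : Fin 3 → α} {y : Fin 3 → β} {P : α → β → Prop} :
    (∀ i, P (sx x i) (y i)) ↔ ∀ i, P (x i) (sx y i) := by
  constructor
  · intro h i
    fin_cases i
    · exact h 0
    · exact h 2
    · exact h 1
  · intro h i
    fin_cases i
    · exact h 0
    · exact h 2
    · exact h 1

theorem eval₂_qf_sw {A B : Type u} [CommRing A] [CommRing B] (ρ : A →+* B) (c : Fin 5 → A) (a : Fin 3 → B) :
    MvPolynomial.eval₂ ρ (sx a) (qf (sw c)) = MvPolynomial.eval₂ ρ a (qf c) := by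
  rw [eval₂_qf, eval₂_qf]
  simp only [sx, sw, Matrix.cons_val_zero, Matrix.cons_val_one, Matrix.cons_val]
  ring

theorem van_swap {M : Y.Modules} {g : Y ⟶ T} {y : Fin 3 → Γ(M, ⊤)} {c : Fin 5 → Γ(T, ⊤)}
    (h : Van g y (qf c)) : Van g (sx y) (qf (sw c)) := by
  intro V e a he ha
  have h1 := h V e (sx a) he (forall_sx (P := fun s t => res M le_top s = t • e) |>.1 ha)
  rw [← eval₂_qf_sw, sx_sx] at h1
  exact h1

theorem gens_swap {M : Y.Modules} {y : Fin 3 → Γ(M, ⊤)} (h : Gens y) : Gens (sx y) := by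
  rw [Gens, eq_top_iff] at h ⊢
  refine h.trans (iSup_le fun i => ?_)
  fin_cases i
  · exact le_iSup (fun i => CohB1.genLocus M (homOf (sx y i))) 0
  · exact le_iSup (fun i => CohB1.genLocus M (homOf (sx y i))) 2
  · exact le_iSup (fun i => CohB1.genLocus M (homOf (sx y i))) 1

section

variable {c : Fin 5 → Γ(T, ⊤)} {f : C ⟶ T} {L : C.Modules} {x : Fin 3 → Γ(L, ⊤)}

theorem CD.swap (h : CD c f x) : CD (sw c) f (sx x) where
  inv := h.inv
  gens := gens_swap h.gens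
  van := van_swap h.van
  up := by
    intro Y g M hM y hy hv
    have h1 := van_swap hv
    rw [sw_sw] at h1
    obtain ⟨r, ⟨hr, τ, hτ⟩, hu⟩ := h.up g M hM (sx y) (gens_swap hy) h1
    refine ⟨r, ⟨hr, τ, ?_⟩, ?_⟩
    · exact (forall_sx (P := fun s t => τ.hom.app ⊤ (pullTop r s) = t)).2 hτ
    · rintro r' ⟨hr', τ', hτ'⟩
      exact hu r' ⟨hr', τ', (forall_sx (P := fun s t => τ'.hom.app ⊤ (pullTop r' s) = t)).1 hτ'⟩

/-- The function `x_0 / x_1`. -/
noncomputable def cw (x : Fin 3 → Γ(L, ⊤)) : Γ(C, gl (x 1)) :=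
  ((isGen_res_gl (x 1)).exists_eq (res L le_top (x 0))).choose

/-- The function `x_2 / x_1`. -/
noncomputable def cs (x : Fin 3 → Γ(L, ⊤)) : Γ(C, gl (x 1)) :=
  ((isGen_res_gl (x 1)).exists_eq (res L le_top (x 2))).choose

theorem res_x0 (x : Fin 3 → Γ(L, ⊤)) : res L (le_top : gl (x 1) ≤ ⊤) (x 0) = cw x • res L le_top (x 1) :=
  ((isGen_res_gl (x 1)).exists_eq (res L le_top (x 0))).choose_spec

theorem res_x2 (x : Fin 3 → Γ(L, ⊤)) : res L (le_top : gl (x 1) ≤ ⊤) (x 2) = cs x • res L le_top (x 1) :=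
  ((isGen_res_gl (x 1)).exists_eq (res L le_top (x 2))).choose_spec

theorem res_x0' {U : C.Opens} (hU : U ≤ gl (x 1)) :
    res L (le_top : U ≤ ⊤) (x 0) = ores hU (cw x) • res L (le_top : U ≤ ⊤) (x 1) := by
  have h := congrArg (res L hU) (res_x0 x)
  rw [res_smul, res_res, res_res] at h
  exact h

theorem res_x2' {U : C.Opens} (hU : U ≤ gl (x 1)) :
    res L (le_top : U ≤ ⊤) (x 2) = ores hU (cs x) • res L (le_top : U ≤ ⊤) (x 1) := by
  have h := congrArg (res L hU) (res_x2 x)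
  rw [res_smul, res_res, res_res] at h
  exact h

theorem isGen_x1 {U : C.Opens} (hU : U ≤ gl (x 1)) : IsGen (res L (le_top : U ≤ ⊤) (x 1)) := (le_gl_iff _ _).1 hU

theorem res_x {U : C.Opens} (hU : U ≤ gl (x 1)) (i : Fin 3) :
    res L (le_top : U ≤ ⊤) (x i) = (![ores hU (cw x), 1, ores hU (cs x)] i : Γ(C, U)) • res L (le_top : U ≤ ⊤) (x 1) := by
  fin_cases i
  · exact res_x0' hU
  · exact (one_smul _ _).symm
  · exact res_x2' hU

theorem eqn_iff {R A : Type u} [CommRing R] [CommRing A] (ρ : A →+* R) (c : Fin 5 → A) (s w : R) :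
    Eqn ρ c s w ↔ MvPolynomial.eval₂ ρ ![w, 1, s] (qf c) = 0 := by
  rw [eval₂_qf, Eqn]
  simp only [Matrix.cons_val_zero, Matrix.cons_val_one, Matrix.cons_val]
  constructor
  · intro h
    linear_combination h
  · intro h
    linear_combination h

theorem eqn (h : Van f x (qf c)) {U : C.Opens} (hU : U ≤ gl (x 1)) :
    Eqn (ρV f U) c (ores hU (cs x)) (ores hU (cw x)) := by
  rw [eqn_iff]
  exact h U _ _ (isGen_x1 hU) (res_x hU)

theorem qf_isHomogeneous {A : Type u} [CommRing A] (c : Fin 5 → A) : (qf c).IsHomogeneous 2 := by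
  have hX : ∀ i : Fin 3, (MvPolynomial.X i : MvPolynomial (Fin 3) A).IsHomogeneous 1 :=
    fun i => MvPolynomial.isHomogeneous_X _ _
  refine (((((?_ : MvPolynomial.IsHomogeneous _ _).add ?_).add ?_).add ?_).add ?_).add ?_
  · exact (hX 0).pow 2
  · exact ((hX 0).mul (hX 1)).C_mul _
  · exact ((hX 0).mul (hX 2)).C_mul _
  · exact ((hX 1).pow 2).C_mul _
  · exact ((hX 1).mul (hX 2)).C_mul _
  · exact ((hX 2).pow 2).C_mul _

theorem isGen_pullTop {r : Y ⟶ C} (hr : ⊤ ≤ r ⁻¹ᵁ gl (x 1)) : IsGen (pullTop r (x 1)) := by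
  have h1 := ((isGen_res_gl (x 1)).pullSec r).res hr
  have h2 := res_pullSec r (le_top : gl (x 1) ≤ ⊤) (x 1)
  rw [← h2, res_res] at h1
  have h3 : res _ (le_refl _) (pullTop r (x 1)) = pullTop r (x 1) := res_refl _ _
  exact h3 ▸ h1

theorem pullTop_eq {r : Y ⟶ C} (hr : ⊤ ≤ r ⁻¹ᵁ gl (x 1)) (i : Fin 3) {a : Γ(C, gl (x 1))}
    (ha : res L (le_top : gl (x 1) ≤ ⊤) (x i) = a • res L le_top (x 1)) :
    pullTop r (x i) = (r.appLE (gl (x 1)) ⊤ hr a) • pullTop r (x 1) := by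
  have h1 := congrArg (res _ hr) (congrArg (pullSec r) ha)
  rw [pullSec_smul, ← res_pullSec r (le_top : gl (x 1) ≤ ⊤) (x i), ← res_pullSec r (le_top : gl (x 1) ≤ ⊤) (x 1),
    res_smul, res_res, res_res] at h1
  have h3 : ∀ i, res _ (le_refl _) (pullTop r (x i)) = pullTop r (x i) := fun i => res_refl _ _
  rw [← h3 i, ← h3 1]
  exact h1

theorem CD.hom_ext (h : CD c f x) {r r' : Y ⟶ C} (hf : r ≫ f = r' ≫ f) (hr : ⊤ ≤ r ⁻¹ᵁ gl (x 1))
    (hr' : ⊤ ≤ r' ⁻¹ᵁ gl (x 1)) (hs : r.appLE _ ⊤ hr (cs x) = r'.appLE _ ⊤ hr' (cs x))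
    (hw : r.appLE _ ⊤ hr (cw x) = r'.appLE _ ⊤ hr' (cw x)) : r = r' := by
  obtain ⟨e, he⟩ := K188.LinFun.exists_iso_of_isGen (isGen_pullTop hr)
  obtain ⟨e', he'⟩ := K188.LinFun.exists_iso_of_isGen (isGen_pullTop hr')
  have hinv := isInvertible_pullback r' h.inv
  have hg : Gens (fun i => pullTop r' (x i)) := by
    rw [Gens, eq_top_iff]
    refine le_trans ?_ (le_iSup _ 1)
    rw [le_gl_iff, res_refl]
    exact isGen_pullTop hr'
  have hv := K123.Van.pullback h.inv (qf_isHomogeneous c) h.van r'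
  refine (h.up (r' ≫ f) _ hinv _ hg hv).unique ⟨hf, e ≪≫ e'.symm, ?_⟩ ⟨rfl, Iso.refl _, fun _ => rfl⟩
  have key : (e ≪≫ e'.symm).hom.app ⊤ (pullTop r (x 1)) = pullTop r' (x 1) := by
    have h1 : e'.inv.app ⊤ (e'.hom.app ⊤ (pullTop r' (x 1))) = pullTop r' (x 1) :=
      congr(($(e'.hom_inv_id).app ⊤) (pullTop r' (x 1)))
    rw [he'] at h1
    refine Eq.trans ?_ h1
    exact congrArg (e'.inv.app ⊤) he
  intro i
  fin_cases i
  · change (e ≪≫ e'.symm).hom.app ⊤ (pullTop r (x 0)) = pullTop r' (x 0)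
    rw [pullTop_eq hr 0 (res_x0 x), pullTop_eq hr' 0 (res_x0 x)]
    refine (Scheme.Modules.Hom.app_smul _ _ _).trans ?_
    rw [key, hw]
  · exact key
  · change (e ≪≫ e'.symm).hom.app ⊤ (pullTop r (x 2)) = pullTop r' (x 2)
    rw [pullTop_eq hr 2 (res_x2 x), pullTop_eq hr' 2 (res_x2 x)]
    refine (Scheme.Modules.Hom.app_smul _ _ _).trans ?_
    rw [key, hs]

theorem CD.exists_hom (h : CD c f x) (g : Y ⟶ T) (s w : Γ(Y, ⊤)) (hE : Eqn g.appTop.hom c s w) :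
    ∃ r : Y ⟶ C, r ≫ f = g ∧ ∃ hr : ⊤ ≤ r ⁻¹ᵁ gl (x 1), r.appLE _ ⊤ hr (cs x) = s ∧ r.appLE _ ⊤ hr (cw x) = w := by
  let y : Fin 3 → Γ(Coh.structureModule Y, ⊤) := fun i => ofFun ((![w, 1, s] : Fin 3 → Γ(Y, ⊤)) i)
  have hy1 : y 1 = one ⊤ := rfl
  have hyi : ∀ i, res (Coh.structureModule Y) (le_top : ⊤ ≤ ⊤) (y i) =
      ((![w, 1, s] : Fin 3 → Γ(Y, ⊤)) i) • one ⊤ := fun i => by
    rw [res_refl, ← ofFun_eq_smul]
  have hg : Gens y := by
    rw [Gens, eq_top_iff]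
    refine le_trans ?_ (le_iSup _ 1)
    rw [le_gl_iff, res_refl, hy1]
    exact isGen_one ⊤
  have hv : Van g y (qf c) := by
    refine K123.Van.van_of_cover (qf_isHomogeneous c) fun t => ⟨⊤, trivial, one ⊤, ![w, 1, s], isGen_one ⊤, hyi, ?_⟩
    have h1 := (eqn_iff _ _ _ _).1 hE
    have h2 : ρV g ⊤ = g.appTop.hom := by
      ext a
      exact ores_refl _
    rw [h2]
    exact h1
  obtain ⟨r, ⟨hr, τ, hτ⟩, -⟩ := h.up g _ isInvertible_structureModule y hg hv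
  have hr1 : ⊤ ≤ r ⁻¹ᵁ gl (x 1) := by
    rw [← genLocus_pullTop r h.inv, ← genLocus_app τ, hτ, le_gl_iff, res_refl, hy1]
    exact isGen_one ⊤
  refine ⟨r, hr, hr1, ?_, ?_⟩
  · have h1 := congrArg (τ.hom.app ⊤) (pullTop_eq hr1 2 (res_x2 x))
    have h2 := h1.trans (Scheme.Modules.Hom.app_smul _ _ _)
    rw [hτ, hτ, hy1, ← ofFun_eq_smul] at h2
    exact (ofFun.injective h2).symm
  · have h1 := congrArg (τ.hom.app ⊤) (pullTop_eq hr1 0 (res_x0 x))
    have h2 := h1.trans (Scheme.Modules.Hom.app_smul _ _ _)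
    rw [hτ, hτ, hy1, ← ofFun_eq_smul] at h2
    exact (ofFun.injective h2).symm

end

end K949.Chart
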