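import Groth.Agent.Fano.K949.Chart

/-!
# Plane conics: the chart over an affine open subset of the base

For `V` affine open in the base, the open subset `UV f x V = gl (x 1) ⊓ f⁻¹ V` of the conic is the spectrum of
`B (cV c V)`: `PhiV : B (cV c V) →+* Γ(C, UV f x V)` is bijective, `theta : UV f x V ⟶ Spec (B (cV c V))` is an isomorphism.
-/

set_option autoImplicit false

universe u

open CategoryTheory CategoryTheory.Limits AlgebraicGeometry TopologicalSpace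

namespace K949.Chart

open K390.PnSec Groth.Agent.Fdesc.LocGen Groth.Agent.Dix.ProjProper
open K188.LineDef K188.MapP1 K745.ConDef K949.ConAlg

section Gen

variable {X Y T : Scheme.{u}}

/-- Elements of a ring as functions on its spectrum. -/
noncomputable def io (B : Type u) [CommRing B] : B →+* Γ(Spec (CommRingCat.of B), ⊤) :=
  (Scheme.ΓSpecIso (CommRingCat.of B)).inv.hom

theorem io_bijective (B : Type u) [CommRing B] : Function.Bijective (io B) :=
  (ConcreteCategory.bijective_of_isIso (Scheme.ΓSpecIso (CommRingCat.of B)).inv)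

theorem appLE_appLE (r : Y ⟶ X) (g : X ⟶ T) {U : T.Opens} {V : X.Opens} {W : Y.Opens} (e₁ : V ≤ g ⁻¹ᵁ U)
    (e₂ : W ≤ r ⁻¹ᵁ V) (e₃ : W ≤ (r ≫ g) ⁻¹ᵁ U) (a : Γ(T, U)) :
    r.appLE V W e₂ (g.appLE U V e₁ a) = (r ≫ g).appLE U W e₃ a := by
  rw [← Scheme.Hom.appLE_comp_appLE r g U V W e₁ e₂]
  rfl

theorem appLE_ores (r : Y ⟶ X) {U U' : X.Opens} (hU : U' ≤ U) {W : Y.Opens} (e : W ≤ r ⁻¹ᵁ U')
    (e' : W ≤ r ⁻¹ᵁ U) (a : Γ(X, U)) : r.appLE U' W e (ores hU a) = r.appLE U W e' a :=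
  congr(($(Scheme.Hom.map_appLE r e (homOfLE hU).op)).hom a)

theorem ores_appLE (r : Y ⟶ X) {U : X.Opens} {W W' : Y.Opens} (hW : W' ≤ W) (e : W ≤ r ⁻¹ᵁ U)
    (e' : W' ≤ r ⁻¹ᵁ U) (a : Γ(X, U)) : ores hW (r.appLE U W e a) = r.appLE U W' e' a :=
  congr(($(Scheme.Hom.appLE_map r e (homOfLE hW).op)).hom a)

theorem appLE_congr' {r r' : Y ⟶ X} (h : r = r') {U : X.Opens} {W : Y.Opens} (e : W ≤ r ⁻¹ᵁ U) (e' : W ≤ r' ⁻¹ᵁ U)
    (a : Γ(X, U)) : r.appLE U W e a = r'.appLE U W e' a := by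
  subst h
  rfl

theorem appTop_eq (r : Y ⟶ X) (a : Γ(X, ⊤)) : r.appTop a = r.appLE ⊤ ⊤ le_top a := by
  rw [Scheme.Hom.appLE]
  simp

variable {V : T.Opens} (hV : IsAffineOpen V) {B : Type u} [CommRing B] (φ : Γ(T, V) →+* B)

/-- The morphism to the base defined by a homomorphism from the ring of an affine open subset. -/
noncomputable def gm : Spec (CommRingCat.of B) ⟶ T := Spec.map (CommRingCat.ofHom φ) ≫ hV.fromSpec

theorem le_gm_preimage : ⊤ ≤ gm hV φ ⁻¹ᵁ V := by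
  intro t _
  rw [gm]
  have h1 := hV.range_fromSpec
  have h2 : hV.fromSpec (Spec.map (CommRingCat.ofHom φ) t) ∈ (V : Set T) := by
    rw [← h1]
    exact ⟨_, rfl⟩
  exact h2

theorem gm_appLE (a : Γ(T, V)) : (gm hV φ).appLE V ⊤ (le_gm_preimage hV φ) a = io B (φ a) := by
  have e₁ : ⊤ ≤ hV.fromSpec ⁻¹ᵁ V := fun t _ => by
    have h2 : hV.fromSpec t ∈ (V : Set T) := by
      rw [← hV.range_fromSpec]
      exact ⟨_, rfl⟩
    exact h2
  have h1 := appLE_appLE (Spec.map (CommRingCat.ofHom φ)) hV.fromSpec e₁ le_top (le_gm_preimage hV φ) a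
  refine h1.symm.trans ?_
  have h2 : hV.fromSpec.appLE V ⊤ e₁ a = (Scheme.ΓSpecIso Γ(T, V)).inv a := by
    rw [Scheme.Hom.appLE, hV.fromSpec_app_of_le V le_rfl]
    have h3 : T.presheaf.map (homOfLE (le_refl V)).op = 𝟙 _ := T.presheaf.map_id _
    rw [h3, Category.id_comp, Category.assoc, ← Functor.map_comp]
    have h4 : ((homOfLE (le_top : hV.fromSpec ⁻¹ᵁ V ≤ ⊤)).op ≫ (homOfLE e₁).op) = 𝟙 _ := Subsingleton.elim _ _
    rw [h4]
    simp
  rw [h2, ← appTop_eq]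
  have h3 := congr(($(Scheme.ΓSpecIso_inv_naturality (CommRingCat.ofHom φ))).hom a)
  exact h3.symm

/-- The morphism from an open subset to the spectrum of a ring. -/
noncomputable def tm {U : X.Opens} (Φ : B →+* Γ(X, U)) : U.toScheme ⟶ Spec (CommRingCat.of B) :=
  U.toSpecΓ ≫ Spec.map (CommRingCat.ofHom Φ)

theorem tm_appTop {U : X.Opens} (Φ : B →+* Γ(X, U)) (b : B) : (tm Φ).appTop (io B b) = U.topIso.inv (Φ b) := by
  have h1 : (tm Φ).appTop = (Spec.map (CommRingCat.ofHom Φ)).appTop ≫ U.toSpecΓ.appTop :=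
    Scheme.Hom.comp_appTop _ _
  rw [h1, Scheme.Opens.toSpecΓ_appTop]
  have h3 := congr(($(Scheme.ΓSpecIso_inv_naturality (CommRingCat.ofHom Φ))).hom b)
  have h4 : (Spec.map (CommRingCat.ofHom Φ)).appTop (io B b) = (Scheme.ΓSpecIso Γ(X, U)).inv (Φ b) := h3.symm
  change U.topIso.inv ((Scheme.ΓSpecIso Γ(X, U)).hom ((Spec.map (CommRingCat.ofHom Φ)).appTop (io B b))) = _
  rw [h4]
  congr 1
  exact congr(($((Scheme.ΓSpecIso Γ(X, U)).inv_hom_id)).hom (Φ b))

theorem ι_appLE {U W : X.Opens} (h : U ≤ W) (e : ⊤ ≤ U.ι ⁻¹ᵁ W) (a : Γ(X, W)) :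
    U.ι.appLE W ⊤ e a = U.topIso.inv (ores h a) := by
  simp only [Scheme.Hom.appLE, ores, Scheme.Opens.ι_app, Scheme.Opens.toScheme_presheaf_map, Scheme.Opens.topIso_inv]
  change (X.presheaf.map _ ≫ X.presheaf.map _).hom a = (X.presheaf.map _ ≫ X.presheaf.map _).hom a
  rw [← Functor.map_comp, ← Functor.map_comp]
  rfl

theorem tm_gm {U : X.Opens} (f : X ⟶ T) (Φ : B →+* Γ(X, U)) (hU : U ≤ f ⁻¹ᵁ V)
    (h : ∀ a, Φ (φ a) = f.appLE V U hU a) : tm Φ ≫ gm hV φ = U.ι ≫ f := by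
  have h1 : CommRingCat.ofHom φ ≫ CommRingCat.ofHom Φ = f.appLE V U hU := by
    ext a
    exact h a
  rw [tm, gm, Category.assoc, ← Spec.map_comp_assoc, h1, Scheme.Opens.toSpecΓ_SpecMap_appLE_assoc,
    hV.toSpecΓ_fromSpec, Scheme.Hom.resLE_comp_ι]

end Gen

section Aff

variable {T C Y : Scheme.{u}} {c : Fin 5 → Γ(T, ⊤)} {f : C ⟶ T} {L : C.Modules} {x : Fin 3 → Γ(L, ⊤)}

/-- The coefficients over an open subset. -/
noncomputable abbrev cV (c : Fin 5 → Γ(T, ⊤)) (V : T.Opens) : Fin 5 → Γ(T, V) := fun i => ores le_top (c i)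

/-- The part of the chart `gl (x 1)` over `V`. -/
noncomputable abbrev UV (f : C ⟶ T) (x : Fin 3 → Γ(L, ⊤)) (V : T.Opens) : C.Opens := gl (x 1) ⊓ f ⁻¹ᵁ V

/-- Functions on the base. -/
noncomputable def rho (f : C ⟶ T) (x : Fin 3 → Γ(L, ⊤)) (V : T.Opens) : Γ(T, V) →+* Γ(C, UV f x V) :=
  (f.appLE V (UV f x V) inf_le_right).hom

theorem rho_ores (f : C ⟶ T) (x : Fin 3 → Γ(L, ⊤)) (V : T.Opens) (a : Γ(T, ⊤)) :
    rho f x V (ores le_top a) = ρV f (UV f x V) a := by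
  have h1 := appLE_ores f (le_top : V ≤ ⊤) (inf_le_right : UV f x V ≤ f ⁻¹ᵁ V) le_top a
  refine h1.trans ?_
  have h2 := ores_appLE f (le_top : UV f x V ≤ ⊤) le_top le_top a
  rw [← appTop_eq] at h2
  exact h2.symm

theorem eqnV (h : Van f x (qf c)) (V : T.Opens) :
    Eqn (rho f x V) (cV c V) (ores inf_le_left (cs x)) (ores inf_le_left (cw x)) := by
  have h1 := eqn h (inf_le_left : UV f x V ≤ gl (x 1))
  rw [Eqn] at h1 ⊢
  simp only [rho_ores]
  exact h1

/-- The functions on the chart over `V`. -/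
noncomputable def PhiV (h : Van f x (qf c)) (V : T.Opens) : B (cV c V) →+* Γ(C, UV f x V) :=
  Phi (rho f x V) (eqnV h V)

section

variable {V : T.Opens} (hV : IsAffineOpen V)

theorem exists_psi (h : CD c f x) : ∃ r : Spec (CommRingCat.of (B (cV c V))) ⟶ C,
    r ≫ f = gm hV (algebraMap Γ(T, V) (B (cV c V))) ∧ ∃ hr : ⊤ ≤ r ⁻¹ᵁ gl (x 1),
      r.appLE _ ⊤ hr (cs x) = io _ (bs (cV c V)) ∧ r.appLE _ ⊤ hr (cw x) = io _ (bw (cV c V)) := by
  refine h.exists_hom _ _ _ ?_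
  have h1 := (eqn_B (cV c V)).map (io (B (cV c V)))
  rw [Eqn] at h1 ⊢
  have h2 : ∀ i, (gm hV (algebraMap Γ(T, V) (B (cV c V)))).appTop (c i) =
      io (B (cV c V)) (algebraMap Γ(T, V) (B (cV c V)) (cV c V i)) := by
    intro i
    rw [← gm_appLE hV, appLE_ores _ _ _ le_top, ← appTop_eq]
  have h3 : ∀ i, (gm hV (algebraMap Γ(T, V) (B (cV c V)))).appTop.hom (c i) =
      io (B (cV c V)) (algebraMap Γ(T, V) (B (cV c V)) (cV c V i)) := h2
  simp only [h3]
  exact h1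

/-- The inverse of the chart. -/
noncomputable def psi (h : CD c f x) : Spec (CommRingCat.of (B (cV c V))) ⟶ C := (exists_psi hV h).choose

theorem psi_f (h : CD c f x) : psi hV h ≫ f = gm hV (algebraMap Γ(T, V) (B (cV c V))) :=
  (exists_psi hV h).choose_spec.1

theorem psi_gl (h : CD c f x) : ⊤ ≤ psi hV h ⁻¹ᵁ gl (x 1) := (exists_psi hV h).choose_spec.2.choose

theorem psi_cs (h : CD c f x) : (psi hV h).appLE _ ⊤ (psi_gl hV h) (cs x) = io _ (bs (cV c V)) :=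
  (exists_psi hV h).choose_spec.2.choose_spec.1

theorem psi_cw (h : CD c f x) : (psi hV h).appLE _ ⊤ (psi_gl hV h) (cw x) = io _ (bw (cV c V)) :=
  (exists_psi hV h).choose_spec.2.choose_spec.2

theorem psi_UV (h : CD c f x) : ⊤ ≤ psi hV h ⁻¹ᵁ UV f x V := by
  have h1 := le_gm_preimage hV (algebraMap Γ(T, V) (B (cV c V)))
  rw [← psi_f hV h] at h1
  intro t ht
  exact ⟨psi_gl hV h ht, h1 ht⟩

theorem psi_PhiV (h : CD c f x) (b : B (cV c V)) :
    (psi hV h).appLE _ ⊤ (psi_UV hV h) (PhiV h.van V b) = io _ b := by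
  have key : (((psi hV h).appLE _ ⊤ (psi_UV hV h)).hom.comp (PhiV h.van V)) = io _ := by
    refine ringHom_ext (fun a => ?_) ?_ ?_
    · rw [RingHom.comp_apply, PhiV, Phi_algebraMap, rho]
      refine (appLE_appLE (psi hV h) f _ _ ?_ a).trans ?_
      · rw [psi_f]
        exact le_gm_preimage _ _
      · have h1 := gm_appLE hV (algebraMap Γ(T, V) (B (cV c V))) a
        rw [← h1]
        exact appLE_congr' (psi_f hV h) _ _ a
    · rw [RingHom.comp_apply, PhiV, Phi_bs]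
      refine (appLE_ores (psi hV h) _ _ (psi_gl hV h) _).trans (psi_cs hV h)
    · rw [RingHom.comp_apply, PhiV, Phi_bw]
      refine (appLE_ores (psi hV h) _ _ (psi_gl hV h) _).trans (psi_cw hV h)
  exact RingHom.congr_fun key b

/-- The chart as a morphism. -/
noncomputable def theta (h : CD c f x) (V : T.Opens) : (UV f x V).toScheme ⟶ Spec (CommRingCat.of (B (cV c V))) :=
  tm (PhiV h.van V)

theorem theta_gm (h : CD c f x) : theta h V ≫ gm hV (algebraMap Γ(T, V) (B (cV c V))) = (UV f x V).ι ≫ f := by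
  refine tm_gm hV _ f _ inf_le_right fun a => ?_
  rw [PhiV, Phi_algebraMap]
  rfl

theorem theta_psi (h : CD c f x) : theta h V ≫ psi hV h = (UV f x V).ι := by
  have hι : ⊤ ≤ (UV f x V).ι ⁻¹ᵁ gl (x 1) := fun t _ => t.2.1
  have hr : ⊤ ≤ (theta h V ≫ psi hV h) ⁻¹ᵁ gl (x 1) := fun t _ => psi_gl hV h trivial
  have key : ∀ (a : Γ(C, gl (x 1))) (b : B (cV c V)), (psi hV h).appLE _ ⊤ (psi_gl hV h) a = io _ b →
      PhiV h.van V b = ores inf_le_left a →
      (theta h V ≫ psi hV h).appLE _ ⊤ hr a = (UV f x V).ι.appLE _ ⊤ hι a := by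
    intro a b hab hb
    rw [ι_appLE inf_le_left, ← hb, ← appLE_appLE (theta h V) (psi hV h) (psi_gl hV h) le_top, hab, ← appTop_eq]
    exact tm_appTop _ _
  refine h.hom_ext ?_ hr hι ?_ ?_
  · rw [Category.assoc, psi_f, theta_gm]
  · refine key _ _ (psi_cs hV h) ?_
    rw [PhiV, Phi_bs]
  · refine key _ _ (psi_cw hV h) ?_
    rw [PhiV, Phi_bw]

end

theorem PhiV_bijective (h : CD c f x) {V : T.Opens} (hV : IsAffineOpen V) :
    Function.Bijective (PhiV h.van V) := by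
  constructor
  · intro a b hab
    have h1 := psi_PhiV hV h a
    rw [hab, psi_PhiV hV h b] at h1
    exact ((io_bijective _).1 h1).symm
  · intro z
    obtain ⟨b, hb⟩ := (io_bijective _).2 ((psi hV h).appLE _ ⊤ (psi_UV hV h) z)
    refine ⟨b, ?_⟩
    have hι : ⊤ ≤ (UV f x V).ι ⁻¹ᵁ UV f x V := fun t _ => t.2
    have h1 := ι_appLE (le_refl (UV f x V)) hι z
    have h2 : (theta h V ≫ psi hV h).appLE (UV f x V) ⊤ (by rw [theta_psi]; exact hι) z =
        (UV f x V).ι.appLE _ ⊤ hι z := appLE_congr' (theta_psi hV h) _ _ z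
    rw [← appLE_appLE (theta h V) (psi hV h) (psi_UV hV h) le_top, ← hb, ← appTop_eq] at h2
    have h3 := tm_appTop (PhiV h.van V) b
    have h4 : (UV f x V).topIso.inv (PhiV h.van V b) = (UV f x V).topIso.inv z := by
      rw [← h3]
      refine h2.trans (h1.trans ?_)
      rw [ores_refl]
    exact (ConcreteCategory.bijective_of_isIso (UV f x V).topIso.inv).1 h4

theorem isIso_theta (h : CD c f x) {V : T.Opens} (hV : IsAffineOpen V) : IsIso (theta h V) := by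
  have hrange : Set.range (psi hV h) ⊆ Set.range (UV f x V).ι := by
    rw [Scheme.Opens.range_ι]
    rintro _ ⟨t, rfl⟩
    exact psi_UV hV h (show t ∈ ⊤ from trivial)
  let ψ' : Spec (CommRingCat.of (B (cV c V))) ⟶ (UV f x V).toScheme := IsOpenImmersion.lift (UV f x V).ι (psi hV h) hrange
  have hψ' : ψ' ≫ (UV f x V).ι = psi hV h := IsOpenImmersion.lift_fac _ _ _
  refine ⟨ψ', ?_, ?_⟩
  · rw [← cancel_mono (UV f x V).ι, Category.assoc, hψ', theta_psi, Category.id_comp]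
  · refine ext_of_isAffine ?_
    ext z
    obtain ⟨b, rfl⟩ := (io_bijective _).2 z
    have hι : ⊤ ≤ (UV f x V).ι ⁻¹ᵁ UV f x V := fun t _ => t.2
    have h1 : (ψ' ≫ theta h V).appTop (io _ b) = ψ'.appTop ((theta h V).appTop (io _ b)) := by
      rw [Scheme.Hom.comp_appTop]
      rfl
    have h2 := ι_appLE (le_refl (UV f x V)) hι (PhiV h.van V b)
    rw [ores_refl] at h2
    have hle : ⊤ ≤ (ψ' ≫ (UV f x V).ι) ⁻¹ᵁ UV f x V := hψ'.symm ▸ psi_UV hV h
    have h3 := appLE_appLE ψ' (UV f x V).ι hι (le_top : ⊤ ≤ ψ' ⁻¹ᵁ ⊤) hle (PhiV h.van V b)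
    rw [h2] at h3
    have h4 := appLE_congr' hψ' hle (psi_UV hV h) (PhiV h.van V b)
    refine h1.trans ?_
    rw [theta, tm_appTop, appTop_eq]
    refine (h3.trans (h4.trans (psi_PhiV hV h b))).trans ?_
    simp

end Aff

end K949.Chart
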