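import Groth.Agent.Fano.K949.ChartAff

/-!
# Plane conics: sections on the two charts

* `isAffineOpen_UV`, `ores_injective`: restriction from one chart to the intersection is injective;
* `eq_zero_of_nf`: normal forms vanishing on the chart are zero;
* `exists_nf_of_glue`: sections of the twist by `d`;
* `existsUnique_of_affine`: glueing over the base.
-/

set_option autoImplicit false

universe u

open CategoryTheory CategoryTheory.Limits AlgebraicGeometry TopologicalSpace

namespace K949.Chart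

open K390.PnSec Groth.Agent.Fdesc.LocGen Groth.Agent.Dix.ProjProper
open K188.LineDef K188.MapP1 K745.ConDef K949.ConAlg

section

variable {T C Y : Scheme.{u}} {c : Fin 5 → Γ(T, ⊤)} {f : C ⟶ T} {L : C.Modules} {x : Fin 3 → Γ(L, ⊤)}

/-- One of the two charts contains a given point. -/
theorem CD.mem_gl (h : CD c f x) (t : C) : t ∈ gl (x 1) ∨ t ∈ gl (sx x 1) := by
  have h1 := h.gens.ge (show t ∈ (⊤ : C.Opens) from trivial)
  rw [Opens.mem_iSup] at h1
  obtain ⟨i, hi⟩ := h1
  have key : t ∈ gl (x 0) → t ∈ gl (x 1) ∨ t ∈ gl (sx x 1) := by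
    intro h0
    have he := isGen_res_gl (x 0)
    obtain ⟨a, ha⟩ := he.exists_eq (res L le_top (x 1))
    obtain ⟨b, hb⟩ := he.exists_eq (res L le_top (x 2))
    have hx : ∀ i, res L (le_top : gl (x 0) ≤ ⊤) (x i) = (![1, a, b] i : Γ(C, gl (x 0))) • res L le_top (x 0) := by
      intro i
      fin_cases i
      · exact (one_smul _ _).symm
      · exact ha
      · exact hb
    have h2 := h.van _ _ _ he hx
    rw [eval₂_qf] at h2
    simp only [Matrix.cons_val_zero, Matrix.cons_val_one, Matrix.cons_val] at h2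
    by_contra hcon
    rw [not_or] at hcon
    have h3 : t ∉ C.basicOpen a := fun h4 => hcon.1 ((mem_gl_iff he ha h0).2 h4)
    have h4 : t ∉ C.basicOpen b := fun h4 => hcon.2 ((mem_gl_iff he hb h0).2 h4)
    rw [Scheme.mem_basicOpen _ _ _ h0] at h3 h4
    have h5 := congrArg (C.presheaf.germ (gl (x 0)) t h0).hom h2
    simp only [map_add, map_mul, map_pow, map_one, map_zero] at h5
    set α := (C.presheaf.germ (gl (x 0)) t h0).hom a
    set β := (C.presheaf.germ (gl (x 0)) t h0).hom b
    have hα : α ∈ IsLocalRing.maximalIdeal (C.presheaf.stalk t) := h3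
    have hβ : β ∈ IsLocalRing.maximalIdeal (C.presheaf.stalk t) := h4
    have h6 : (1 : C.presheaf.stalk t) ∈ IsLocalRing.maximalIdeal (C.presheaf.stalk t) := by
      set c' := fun i => (C.presheaf.germ (gl (x 0)) t h0).hom (ρV f (gl (x 0)) (c i))
      have h7 : (1 : C.presheaf.stalk t) = (-(c' 0 + c' 2 * α + c' 3 * β)) * α + (-(c' 1 + c' 4 * β)) * β := by
        linear_combination h5
      rw [h7]
      exact Ideal.add_mem _ (Ideal.mul_mem_left _ _ hα) (Ideal.mul_mem_left _ _ hβ)
    exact (Ideal.ne_top_iff_one _).1 (IsLocalRing.maximalIdeal.isMaximal _).ne_top h6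
  fin_cases i
  · exact key hi
  · exact Or.inl hi
  · exact Or.inr hi

theorem isAffineOpen_UV (h : CD c f x) {V : T.Opens} (hV : IsAffineOpen V) : IsAffineOpen (UV f x V) := by
  have := isIso_theta h hV
  exact IsAffine.of_isIso (theta h V)

/-- The intersection of the two charts over `V`. -/
noncomputable abbrev W12 (f : C ⟶ T) (x : Fin 3 → Γ(L, ⊤)) (V : T.Opens) : C.Opens := UV f x V ⊓ UV f (sx x) V

theorem W12_eq (V : T.Opens) : W12 f x V = C.basicOpen (ores (inf_le_left : UV f x V ≤ gl (x 1)) (cs x)) := by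
  ext t
  constructor
  · rintro ⟨h1, h2⟩
    exact (mem_gl_iff (isGen_x1 inf_le_left) (res_x2' inf_le_left) h1).1 h2.1
  · intro h1
    have h2 : t ∈ UV f x V := C.basicOpen_le _ h1
    exact ⟨h2, (mem_gl_iff (isGen_x1 inf_le_left) (res_x2' inf_le_left) h2).2 h1, h2.2⟩

theorem PhiV_bs (h : Van f x (qf c)) (V : T.Opens) : PhiV h V (bs (cV c V)) = ores inf_le_left (cs x) := by
  rw [PhiV, Phi_bs]

theorem PhiV_bw (h : Van f x (qf c)) (V : T.Opens) : PhiV h V (bw (cV c V)) = ores inf_le_left (cw x) := by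
  rw [PhiV, Phi_bw]

theorem ores_left_injective (h : CD c f x) {V : T.Opens} (hV : IsAffineOpen V) :
    Function.Injective (ores (inf_le_left : W12 f x V ≤ UV f x V)) := by
  rw [injective_iff_map_eq_zero]
  intro z hz
  have hU := isAffineOpen_UV h hV
  set s := ores (inf_le_left : UV f x V ≤ gl (x 1)) (cs x) with hs
  have hloc := hU.isLocalization_basicOpen s
  have hz' : ores (C.basicOpen_le s) z = 0 := by
    have h1 : C.basicOpen s ≤ W12 f x V := (W12_eq V).ge
    have h2 := congrArg (ores h1) hz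
    rw [ores_ores, map_zero] at h2
    exact h2
  obtain ⟨⟨_, n, rfl⟩, hn⟩ := (IsLocalization.map_eq_zero_iff (Submonoid.powers s) Γ(C, C.basicOpen s) z).1 hz'
  obtain ⟨b, rfl⟩ := (PhiV_bijective h hV).2 z
  have h3 : PhiV h.van V (bs (cV c V) ^ n * b) = 0 := by
    rw [map_mul, map_pow, PhiV_bs]
    exact hn
  rw [(map_eq_zero_iff _ (PhiV_bijective h hV).1).1 h3 |> eq_zero_of_bs_pow_mul, map_zero]

theorem ores_right_injective (h : CD c f x) {V : T.Opens} (hV : IsAffineOpen V) :
    Function.Injective (ores (inf_le_right : W12 f x V ≤ UV f (sx x) V)) := by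
  have h1 := ores_left_injective h.swap hV
  intro a b hab
  apply h1
  have hle : W12 f (sx x) V ≤ W12 f x V := by
    rw [W12, W12, sx_sx]
    exact le_of_eq (inf_comm _ _)
  have h2 := congrArg (ores hle) hab
  rw [ores_ores, ores_ores] at h2
  exact h2

/-- The relations between the coordinates. -/
theorem rel (V : T.Opens) :
    ores (inf_le_left.trans inf_le_left : W12 f x V ≤ gl (x 1)) (cs x) *
      ores (inf_le_right.trans inf_le_left : W12 f x V ≤ gl (sx x 1)) (cs (sx x)) = 1 ∧
    ores (inf_le_right.trans inf_le_left : W12 f x V ≤ gl (sx x 1)) (cw (sx x)) =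
      ores (inf_le_right.trans inf_le_left : W12 f x V ≤ gl (sx x 1)) (cs (sx x)) *
        ores (inf_le_left.trans inf_le_left : W12 f x V ≤ gl (x 1)) (cw x) := by
  have h1 : W12 f x V ≤ gl (x 1) := inf_le_left.trans inf_le_left
  have h2 : W12 f x V ≤ gl (sx x 1) := inf_le_right.trans inf_le_left
  have e1 := isGen_x1 (x := x) h1
  have e2 := isGen_x1 (x := sx x) h2
  have r1 := res_x2' (x := x) h1
  have r2 := res_x2' (x := sx x) h2
  have r3 := res_x0' (x := x) h1
  have r4 := res_x0' (x := sx x) h2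
  have q1 : sx x 1 = x 2 := rfl
  have q2 : sx x 2 = x 1 := rfl
  have q0 : sx x 0 = x 0 := rfl
  constructor
  · refine e2.ext ?_
    rw [mul_smul, one_smul, ← r2, q2, ← r1, q1]
  · refine e2.ext ?_
    rw [← r4, q0, r3, mul_comm, mul_smul, ← r2, q2]

/-- A normal form vanishing on the chart is zero. -/
theorem eq_zero_of_nf (h : CD c f x) {V : T.Opens} (hV : IsAffineOpen V) {m : ℕ} {a b : ℕ → Γ(T, V)}
    (h0 : MvPolynomial.eval₂ (rho f x V) ![ores inf_le_left (cw x), 1, ores inf_le_left (cs x)] (nf m a b) = 0) :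
    (∀ k, k ≤ m → a k = 0) ∧ ∀ k, k < m → b k = 0 := by
  rw [eval₂_nf, ← Phi_mk (rho f x V) (eqnV h.van V)] at h0
  have h1 := (map_eq_zero_iff _ (PhiV_bijective h hV).1).1 h0
  have h2 := congrArg QuadraticAlgebra.re h1
  have h3 := congrArg QuadraticAlgebra.im h1
  simp only [QuadraticAlgebra.re_zero, QuadraticAlgebra.im_zero] at h2 h3
  constructor
  · intro k hk
    have h4 := congrArg (fun p => Polynomial.coeff p k) h2
    simp only [Polynomial.finsetSum_coeff, Polynomial.coeff_C_mul, Polynomial.coeff_X_pow, Polynomial.coeff_zero] at h4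
    rw [Finset.sum_eq_single k] at h4
    · simpa using h4
    · intro j _ hj
      rw [if_neg (Ne.symm hj), mul_zero]
    · intro hk'
      rw [Finset.mem_range] at hk'
      omega
  · intro k hk
    have h4 := congrArg (fun p => Polynomial.coeff p k) h3
    simp only [Polynomial.finsetSum_coeff, Polynomial.coeff_C_mul, Polynomial.coeff_X_pow, Polynomial.coeff_zero] at h4
    rw [Finset.sum_eq_single k] at h4
    · simpa using h4
    · intro j _ hj
      rw [if_neg (Ne.symm hj), mul_zero]
    · intro hk'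
      rw [Finset.mem_range] at hk'
      omega

/-- Sections of the twist by `d` over `V`. -/
theorem exists_nf_of_glue (h : CD c f x) {V : T.Opens} (hV : IsAffineOpen V) (d : ℕ) (g₁ : Γ(C, UV f x V))
    (g₂ : Γ(C, UV f (sx x) V))
    (hg : ores (inf_le_left : W12 f x V ≤ UV f x V) g₁ =
      ores (inf_le_left.trans inf_le_left : W12 f x V ≤ gl (x 1)) (cs x) ^ d *
        ores (inf_le_right : W12 f x V ≤ UV f (sx x) V) g₂) :
    ∃ a b : ℕ → Γ(T, V),
      g₁ = MvPolynomial.eval₂ (rho f x V) ![ores inf_le_left (cw x), 1, ores inf_le_left (cs x)] (nf d a b) ∧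
      g₂ = MvPolynomial.eval₂ (rho f (sx x) V) ![ores inf_le_left (cw (sx x)), ores inf_le_left (cs (sx x)), 1]
        (nf d a b) := by
  obtain ⟨⟨P₁, Q₁⟩, rfl⟩ := (PhiV_bijective h hV).2 g₁
  obtain ⟨⟨P₂, Q₂⟩, rfl⟩ := (PhiV_bijective h.swap hV).2 g₂
  obtain ⟨hst, hw⟩ := rel (f := f) (x := x) V
  set s := ores (inf_le_left.trans inf_le_left : W12 f x V ≤ gl (x 1)) (cs x) with hs
  set t := ores (inf_le_right.trans inf_le_left : W12 f x V ≤ gl (sx x 1)) (cs (sx x)) with ht
  set w := ores (inf_le_left.trans inf_le_left : W12 f x V ≤ gl (x 1)) (cw x) with hw'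
  let ρ : Γ(T, V) →+* Γ(C, W12 f x V) := (ores (inf_le_left : W12 f x V ≤ UV f x V)).comp (rho f x V)
  have hρ : ρ = (ores (inf_le_right : W12 f x V ≤ UV f (sx x) V)).comp (rho f (sx x) V) := by
    ext a
    exact (ores_appLE f inf_le_left _ (inf_le_left.trans inf_le_right) a).trans
      (ores_appLE f inf_le_right _ (inf_le_left.trans inf_le_right) a).symm
  have k1 : ∀ P Q : Polynomial Γ(T, V), ores (inf_le_left : W12 f x V ≤ UV f x V) (PhiV h.van V ⟨P, Q⟩) =
      Polynomial.eval₂ ρ s P + Polynomial.eval₂ ρ s Q * w := by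
    intro P Q
    rw [PhiV, Phi_mk, map_add, map_mul, Polynomial.hom_eval₂, Polynomial.hom_eval₂, ores_ores, ores_ores]
  have k2 : ∀ P Q : Polynomial Γ(T, V),
      ores (inf_le_right : W12 f x V ≤ UV f (sx x) V) (PhiV h.swap.van V ⟨P, Q⟩) =
        Polynomial.eval₂ ρ t P + Polynomial.eval₂ ρ t Q * (t * w) := by
    intro P Q
    rw [PhiV, Phi_mk, map_add, map_mul, Polynomial.hom_eval₂, Polynomial.hom_eval₂, ores_ores, ores_ores, ← hρ, ← hw]
  rw [k1, k2] at hg
  obtain ⟨hP, hQ⟩ := coeff_eq_zero_of_glue ρ hst (fun P Q h0 => by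
    rw [← k1] at h0
    have h1 := (map_eq_zero_iff _ (ores_left_injective h hV)).1 h0
    have h2 := (map_eq_zero_iff _ (PhiV_bijective h hV).1).1 h1
    exact ⟨congrArg QuadraticAlgebra.re h2, congrArg QuadraticAlgebra.im h2⟩) hg
  have hP' : P₁ = ∑ k ∈ Finset.range (d + 1), Polynomial.C (P₁.coeff k) * Polynomial.X ^ k := by
    refine Polynomial.ext fun k => ?_
    simp only [Polynomial.finsetSum_coeff, Polynomial.coeff_C_mul, Polynomial.coeff_X_pow]
    by_cases hk : k < d + 1
    · rw [Finset.sum_eq_single k]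
      · simp
      · intro j _ hj
        rw [if_neg (Ne.symm hj), mul_zero]
      · intro hk'
        exact absurd (Finset.mem_range.2 hk) hk'
    · rw [hP k (by omega), Finset.sum_eq_zero]
      intro j hj
      rw [Finset.mem_range] at hj
      rw [if_neg (by omega), mul_zero]
  have hQ' : Q₁ = ∑ k ∈ Finset.range d, Polynomial.C (Q₁.coeff k) * Polynomial.X ^ k := by
    refine Polynomial.ext fun k => ?_
    simp only [Polynomial.finsetSum_coeff, Polynomial.coeff_C_mul, Polynomial.coeff_X_pow]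
    by_cases hk : k < d
    · rw [Finset.sum_eq_single k]
      · simp
      · intro j _ hj
        rw [if_neg (Ne.symm hj), mul_zero]
      · intro hk'
        exact absurd (Finset.mem_range.2 hk) hk'
    · rw [hQ k (by omega), Finset.sum_eq_zero]
      intro j hj
      rw [Finset.mem_range] at hj
      rw [if_neg (by omega), mul_zero]
  have hg1 : PhiV h.van V ⟨P₁, Q₁⟩ = MvPolynomial.eval₂ (rho f x V)
      ![ores inf_le_left (cw x), 1, ores inf_le_left (cs x)] (nf d (fun k => P₁.coeff k) (fun k => Q₁.coeff k)) := by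
    rw [eval₂_nf, ← hP', ← hQ', PhiV, Phi_mk]
  refine ⟨fun k => P₁.coeff k, fun k => Q₁.coeff k, hg1, ?_⟩
  apply ores_right_injective h hV
  rw [k2]
  have h1 : Polynomial.eval₂ ρ t P₂ + Polynomial.eval₂ ρ t Q₂ * (t * w) = t ^ d *
      (Polynomial.eval₂ ρ s P₁ + Polynomial.eval₂ ρ s Q₁ * w) := by
    have h2 : t ^ d * s ^ d = 1 := by rw [← mul_pow, mul_comm t s, hst, one_pow]
    rw [hg, ← mul_assoc (t ^ d), h2, one_mul]
  rw [h1, ← k1, hg1, MvPolynomial.eval₂_comp_left, MvPolynomial.eval₂_comp_left, ← hρ,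
    ← eval₂_smul _ _ _ (nf_isHomogeneous _ _ _)]
  congr 1
  funext i
  fin_cases i
  · show t * ores inf_le_left (ores inf_le_left (cw x)) = ores inf_le_right (ores inf_le_left (cw (sx x)))
    rw [ores_ores, ores_ores]
    exact hw.symm
  · show t * ores inf_le_left 1 = ores inf_le_right (ores inf_le_left (cs (sx x)))
    rw [map_one, mul_one, ores_ores]
  · show t * ores inf_le_left (ores inf_le_left (cs x)) = ores inf_le_right 1
    rw [ores_ores, map_one, mul_comm]
    exact hst

end

section Glue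

variable {T C : Scheme.{u}} {f : C ⟶ T} {M : C.Modules} {κ : Type} [Fintype κ] {y : κ → Γ(M, ⊤)}

/-- The linear combination with coefficients `a` of the sections `y`, over the inverse image of `W`. -/
noncomputable def lc (f : C ⟶ T) (y : κ → Γ(M, ⊤)) (W : T.Opens) (a : κ → Γ(T, W)) : Γ(M, f ⁻¹ᵁ W) :=
  ∑ i, (f.app W (a i) : Γ(C, f ⁻¹ᵁ W)) • res M le_top (y i)

theorem res_lc {W W' : T.Opens} (h : W' ≤ W) (a : κ → Γ(T, W)) :
    res M (f.preimage_mono h) (lc f y W a) = lc f y W' (fun i => ores h (a i)) := by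
  rw [lc, lc, map_sum]
  refine Finset.sum_congr rfl fun i _ => ?_
  rw [res_smul, res_res]
  congr 1
  exact congr(($(f.naturality (homOfLE h).op)).hom (a i)).symm

theorem lc_sub (W : T.Opens) (a b : κ → Γ(T, W)) : lc f y W (a - b) = lc f y W a - lc f y W b := by
  rw [lc, lc, lc, ← Finset.sum_sub_distrib]
  refine Finset.sum_congr rfl fun i _ => ?_
  rw [Pi.sub_apply, map_sub, sub_smul]

theorem lc_injective (hinj : ∀ V : T.Opens, IsAffineOpen V → ∀ a : κ → Γ(T, V), lc f y V a = 0 → a = 0)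
    (W : T.Opens) (a : κ → Γ(T, W)) (h : lc f y W a = 0) : a = 0 := by
  funext i
  choose V hV hVm hVW using fun t : W => exists_isAffineOpen_mem_and_subset t.2
  refine ores_ext V (fun t => hVW t) ?_ fun t => ?_
  · intro t ht
    exact Opens.mem_iSup.2 ⟨⟨t, ht⟩, hVm ⟨t, ht⟩⟩
  · have h1 := congrArg (res M (f.preimage_mono (hVW t))) h
    rw [res_lc, map_zero] at h1
    rw [Pi.zero_apply, map_zero]
    exact congrFun (hinj _ (hV t) _ h1) i

theorem existsUnique_of_affine
    (hinj : ∀ V : T.Opens, IsAffineOpen V → ∀ a : κ → Γ(T, V), lc f y V a = 0 → a = 0)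
    (hex : ∀ V : T.Opens, IsAffineOpen V → ∀ s : Γ(M, ⊤), ∃ a : κ → Γ(T, V), res M le_top s = lc f y V a)
    (s : Γ(M, ⊤)) : ∃! a : κ → Γ(T, ⊤), s = ∑ i, (f.appTop (a i)) • y i := by
  have key : ∀ a : κ → Γ(T, ⊤), lc f y ⊤ a = ∑ i, (f.appTop (a i)) • y i := by
    intro a
    rw [lc]
    refine Finset.sum_congr rfl fun i _ => ?_
    congr 1
    exact res_refl _ _
  choose V hV hVm hVW using fun t : T => exists_isAffineOpen_mem_and_subset (show t ∈ (⊤ : T.Opens) from trivial)
  choose a ha using fun t => hex (V t) (hV t) s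
  have hcov : (⊤ : T.Opens) ≤ ⨆ t, V t := fun t _ => Opens.mem_iSup.2 ⟨t, hVm t⟩
  have hcomp : ∀ t t', (fun i => ores (inf_le_left : V t ⊓ V t' ≤ V t) (a t i)) =
      fun i => ores (inf_le_right : V t ⊓ V t' ≤ V t') (a t' i) := by
    intro t t'
    rw [← sub_eq_zero]
    refine lc_injective hinj _ _ ?_
    rw [lc_sub, ← res_lc, ← res_lc, ← ha, ← ha, res_res, res_res, sub_self]
  choose b hb using fun i => ores_glue (X := T) V (fun t => le_top) hcov (fun t => a t i)
    (fun t t' => congrFun (hcomp t t') i)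
  refine ⟨b, ?_, fun b' hb' => ?_⟩
  · show s = ∑ i, (f.appTop (b i)) • y i
    rw [← key]
    refine res_ext M (fun t => f ⁻¹ᵁ V t) (fun t => le_top) ?_ fun t => ?_
    · intro z _
      exact Opens.mem_iSup.2 ⟨f z, hVm (f z)⟩
    · have h1 := res_lc (f := f) (y := y) (le_top : V t ≤ ⊤) b
      refine Eq.trans ?_ h1.symm
      rw [ha]
      congr 1
      funext i
      exact (hb i t).symm
  · have hb'' : s = ∑ i, (f.appTop (b' i)) • y i := hb'
    rw [← key] at hb''
    have hs : s = lc f y ⊤ b := by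
      refine res_ext M (fun t => f ⁻¹ᵁ V t) (fun t => le_top) ?_ fun t => ?_
      · intro z _
        exact Opens.mem_iSup.2 ⟨f z, hVm (f z)⟩
      · have h1 := res_lc (f := f) (y := y) (le_top : V t ≤ ⊤) b
        refine Eq.trans ?_ h1.symm
        rw [ha]
        congr 1
        funext i
        exact (hb i t).symm
    have h2 : lc f y ⊤ (b' - b) = 0 := by
      rw [lc_sub, ← hb'', ← hs, sub_self]
    exact sub_eq_zero.1 (lc_injective hinj _ _ h2)

end Glue

end K949.Chart
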