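import Groth.Agent.Fano.K745.ConDef
import Mathlib.Algebra.QuadraticAlgebra.Basic
import Mathlib.Algebra.Polynomial.Reverse
import Mathlib.RingTheory.Finiteness.ModuleFinitePresentation
import Mathlib.RingTheory.Flat.Basic
import Mathlib.RingTheory.Polynomial.Quotient

/-!
# Plane conics: algebra of the charts

* `B c = A[s][w] / (w² + (c_0 + c_1 s) w + c_2 + c_3 s + c_4 s²)`, free over `A[s]` with basis `1, w`;
* `Phi`: its universal property; `sw c`: the coefficients in the other chart;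
* `nf m a b = Σ_{k ≤ m} a_k X_2^k X_1^{m-k} + Σ_{k < m} b_k X_0 X_2^k X_1^{m-1-k}`; `exists_nf`: every form of degree `m` is
  of this form modulo `qf c`;
* `coeff_eq_zero_of_glue`: the bound for the degrees of sections of the twists.
-/

set_option autoImplicit false

universe u v

open Polynomial

namespace K949.ConAlg

open K745.ConDef

section B

variable {A : Type u} [CommRing A]

/-- The coefficients with the last two variables exchanged. -/
def sw (c : Fin 5 → A) : Fin 5 → A := ![c 1, c 0, c 4, c 3, c 2]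

omit [CommRing A] in
theorem sw_sw (c : Fin 5 → A) : sw (sw c) = c := by
  funext i
  fin_cases i <;> rfl

/-- Minus the constant term. -/
noncomputable abbrev qa (c : Fin 5 → A) : A[X] := -(C (c 2) + C (c 3) * X + C (c 4) * X ^ 2)

/-- Minus the linear term. -/
noncomputable abbrev qb (c : Fin 5 → A) : A[X] := -(C (c 0) + C (c 1) * X)

/-- `A[s][w] / (w ^ 2 + (c_0 + c_1 s) w + c_2 + c_3 s + c_4 s ^ 2)`. -/
abbrev B (c : Fin 5 → A) : Type u := QuadraticAlgebra A[X] (qa c) (qb c)

/-- The function `s`. -/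
noncomputable def bs (c : Fin 5 → A) : B c := algebraMap A[X] (B c) X

/-- The function `w`. -/
noncomputable def bw (c : Fin 5 → A) : B c := QuadraticAlgebra.omega

instance flat_B (c : Fin 5 → A) : Module.Flat A (B c) := by
  have : IsScalarTower A A[X] (B c) := inferInstance
  exact Module.Flat.trans A A[X] (B c)

instance finitePresentation_B (c : Fin 5 → A) : Algebra.FinitePresentation A (B c) := by
  have h1 : Module.FinitePresentation A[X] (B c) := Module.finitePresentation_of_projective A[X] (B c)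
  have h2 : Algebra.FinitePresentation A[X] (B c) := inferInstance
  have h3 : Algebra.FinitePresentation A A[X] := inferInstance
  have : IsScalarTower A A[X] (B c) := inferInstance
  exact Algebra.FinitePresentation.trans A A[X] (B c)

variable {R : Type v} [CommRing R]

/-- The equation of the chart. -/
def Eqn (ρ : A →+* R) (c : Fin 5 → A) (s w : R) : Prop :=
  w ^ 2 + (ρ (c 0) + ρ (c 1) * s) * w + ρ (c 2) + ρ (c 3) * s + ρ (c 4) * s ^ 2 = 0

theorem algebraMap_B (c : Fin 5 → A) (a : A) : algebraMap A (B c) a = algebraMap A[X] (B c) (C a) := rfl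

theorem eqn_B (c : Fin 5 → A) : Eqn (algebraMap A (B c)) c (bs c) (bw c) := by
  have h1 : (bw c) * (bw c) = algebraMap A[X] (B c) (qa c) + algebraMap A[X] (B c) (qb c) * bw c :=
    QuadraticAlgebra.omega_mul_omega_eq_algebraMap
  rw [Eqn, sq, h1]
  simp only [algebraMap_B, bs, qa, qb, map_neg, map_add, map_mul, map_pow]
  ring

theorem Eqn.map {ρ : A →+* R} {c : Fin 5 → A} {s w : R} (h : Eqn ρ c s w) {S : Type*} [CommRing S] (g : R →+* S) :
    Eqn (g.comp ρ) c (g s) (g w) := by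
  have := congrArg g h
  simpa [Eqn] using this

/-- The universal property. -/
noncomputable def Phi (ρ : A →+* R) {c : Fin 5 → A} {s w : R} (h : Eqn ρ c s w) : B c →+* R :=
  letI := (eval₂RingHom ρ s).toAlgebra
  (QuadraticAlgebra.lift (a := qa c) (b := qb c) ⟨w, by
    rw [Algebra.smul_def, Algebra.smul_def, mul_one]
    change w * w = eval₂RingHom ρ s (qa c) + eval₂RingHom ρ s (qb c) * w
    simp only [qa, qb, map_neg, map_add, map_mul, map_pow, coe_eval₂RingHom, eval₂_C, eval₂_X]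
    unfold Eqn at h
    linear_combination h⟩).toRingHom

theorem Phi_mk (ρ : A →+* R) {c : Fin 5 → A} {s w : R} (h : Eqn ρ c s w) (P Q : A[X]) :
    Phi ρ h ⟨P, Q⟩ = eval₂ ρ s P + eval₂ ρ s Q * w := by
  let := (eval₂RingHom ρ s).toAlgebra
  change P • (1 : R) + Q • w = _
  rw [Algebra.smul_def, Algebra.smul_def, mul_one]
  rfl

theorem Phi_algebraMap' (ρ : A →+* R) {c : Fin 5 → A} {s w : R} (h : Eqn ρ c s w) (P : A[X]) :
    Phi ρ h (algebraMap A[X] (B c) P) = eval₂ ρ s P := by
  change Phi ρ h ⟨P, 0⟩ = _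
  rw [Phi_mk]
  simp

@[simp]
theorem Phi_algebraMap (ρ : A →+* R) {c : Fin 5 → A} {s w : R} (h : Eqn ρ c s w) (a : A) :
    Phi ρ h (algebraMap A (B c) a) = ρ a := by
  rw [algebraMap_B, Phi_algebraMap', eval₂_C]

@[simp]
theorem Phi_bs (ρ : A →+* R) {c : Fin 5 → A} {s w : R} (h : Eqn ρ c s w) : Phi ρ h (bs c) = s := by
  rw [bs, Phi_algebraMap', eval₂_X]

@[simp]
theorem Phi_bw (ρ : A →+* R) {c : Fin 5 → A} {s w : R} (h : Eqn ρ c s w) : Phi ρ h (bw c) = w := by
  change Phi ρ h ⟨0, 1⟩ = _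
  rw [Phi_mk]
  simp

theorem mk_eq (c : Fin 5 → A) (P Q : A[X]) :
    (⟨P, Q⟩ : B c) = algebraMap A[X] (B c) P + algebraMap A[X] (B c) Q * bw c := by
  rw [QuadraticAlgebra.mk_eq_add_smul_omega, Algebra.smul_def]
  rfl

theorem ringHom_ext {c : Fin 5 → A} {α β : B c →+* R} (h : ∀ a : A, α (algebraMap A (B c) a) = β (algebraMap A (B c) a))
    (hs : α (bs c) = β (bs c)) (hw : α (bw c) = β (bw c)) : α = β := by
  have h1 : α.comp (algebraMap A[X] (B c)) = β.comp (algebraMap A[X] (B c)) :=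
    Polynomial.ringHom_ext (fun a => h a) hs
  ext ⟨P, Q⟩
  rw [mk_eq, map_add, map_add, map_mul, map_mul, hw]
  have h2 := fun P => RingHom.congr_fun h1 P
  simp only [RingHom.comp_apply] at h2
  rw [h2, h2]

/-- `s` is a nonzerodivisor. -/
theorem eq_zero_of_bs_pow_mul {c : Fin 5 → A} {n : ℕ} {z : B c} (h : bs c ^ n * z = 0) : z = 0 := by
  rw [bs, ← map_pow, ← Algebra.smul_def] at h
  have h1 := congrArg QuadraticAlgebra.re h
  have h2 := congrArg QuadraticAlgebra.im h
  simp only [QuadraticAlgebra.re_smul, QuadraticAlgebra.im_smul, QuadraticAlgebra.re_zero,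
    QuadraticAlgebra.im_zero, smul_eq_mul] at h1 h2
  refine QuadraticAlgebra.ext ?_ ?_
  · rw [← mul_zero (X ^ n)] at h1
    exact (Polynomial.isRegular_X_pow n).left h1
  · rw [← mul_zero (X ^ n)] at h2
    exact (Polynomial.isRegular_X_pow n).left h2

end B

section Glue

variable {A : Type u} [CommRing A] {R : Type v} [CommRing R]

theorem reflect_eval (ρ : A →+* R) {s t : R} (hst : s * t = 1) {N : ℕ} {P : A[X]} (hN : P.natDegree ≤ N) :
    s ^ N * eval₂ ρ t P = eval₂ ρ s (P.reflect N) := by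
  let : Invertible s := ⟨t, by rw [mul_comm]; exact hst, hst⟩
  have h := eval₂_reflect_mul_pow ρ s N (P.reflect N) (by
    refine natDegree_reflect_le.trans ?_
    exact max_le le_rfl hN)
  rw [reflect_reflect] at h
  rw [mul_comm]
  exact h

theorem coeff_eq_zero_of_glue (ρ : A →+* R) {s t w : R} (hst : s * t = 1)
    (hinj : ∀ P Q : A[X], eval₂ ρ s P + eval₂ ρ s Q * w = 0 → P = 0 ∧ Q = 0) {d : ℕ} {P₁ Q₁ P₂ Q₂ : A[X]}
    (h : eval₂ ρ s P₁ + eval₂ ρ s Q₁ * w = s ^ d * (eval₂ ρ t P₂ + eval₂ ρ t Q₂ * (t * w))) :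
    (∀ k, d < k → P₁.coeff k = 0) ∧ ∀ k, d ≤ k → Q₁.coeff k = 0 := by
  set N : ℕ := max P₂.natDegree Q₂.natDegree with hN
  have hP : P₂.natDegree ≤ N + 1 := (le_max_left _ _).trans (Nat.le_succ _)
  have hQ : Q₂.natDegree ≤ N := le_max_right _ _
  have h1 : eval₂ ρ s (X ^ (N + 1) * P₁ - X ^ d * P₂.reflect (N + 1)) +
      eval₂ ρ s (X ^ (N + 1) * Q₁ - X ^ d * Q₂.reflect N) * w = 0 := by
    simp only [eval₂_sub, eval₂_mul, eval₂_X_pow]
    rw [← reflect_eval ρ hst hP, ← reflect_eval ρ hst hQ]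
    have h2 : s ^ (N + 1) * _ = s ^ (N + 1) * _ := congrArg (fun z => s ^ (N + 1) * z) h
    have h3 : s ^ (N + 1) * (s ^ d * (eval₂ ρ t P₂ + eval₂ ρ t Q₂ * (t * w))) =
        s ^ d * (s ^ (N + 1) * eval₂ ρ t P₂) + (s ^ d * (s ^ N * eval₂ ρ t Q₂)) * w * (s * t) := by ring
    rw [h3, hst] at h2
    linear_combination h2
  obtain ⟨h2, h3⟩ := hinj _ _ h1
  rw [sub_eq_zero] at h2 h3
  constructor
  · intro k hk
    have h4 := congrArg (fun p => p.coeff (k + (N + 1))) h2
    simp only [coeff_X_pow_mul] at h4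
    rw [show k + (N + 1) = (k + (N + 1) - d) + d by omega, coeff_X_pow_mul, coeff_reflect,
      revAt_eq_self_of_lt (show N + 1 < k + (N + 1) - d by omega)] at h4
    rw [h4]
    exact coeff_eq_zero_of_natDegree_lt (by omega)
  · intro k hk
    have h4 := congrArg (fun p => p.coeff (k + (N + 1))) h3
    simp only [coeff_X_pow_mul] at h4
    rw [show k + (N + 1) = (k + (N + 1) - d) + d by omega, coeff_X_pow_mul, coeff_reflect,
      revAt_eq_self_of_lt (show N < k + (N + 1) - d by omega)] at h4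
    rw [h4]
    exact coeff_eq_zero_of_natDegree_lt (by omega)

end Glue

section Nf

variable {A : Type u} [CommRing A]

/-- Normal forms of ternary forms of degree `m` modulo `qf c`. -/
noncomputable def nf (m : ℕ) (a b : ℕ → A) : MvPolynomial (Fin 3) A :=
  ∑ k ∈ Finset.range (m + 1), MvPolynomial.C (a k) * (MvPolynomial.X 2 ^ k * MvPolynomial.X 1 ^ (m - k)) +
    ∑ k ∈ Finset.range m, MvPolynomial.C (b k) *
      (MvPolynomial.X 0 * (MvPolynomial.X 2 ^ k * MvPolynomial.X 1 ^ (m - 1 - k)))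

theorem nf_isHomogeneous (m : ℕ) (a b : ℕ → A) : (nf m a b).IsHomogeneous m := by
  have hX : ∀ i : Fin 3, (MvPolynomial.X i : MvPolynomial (Fin 3) A).IsHomogeneous 1 :=
    fun i => MvPolynomial.isHomogeneous_X _ _
  refine MvPolynomial.IsHomogeneous.add (MvPolynomial.IsHomogeneous.sum _ _ _ fun k hk => ?_)
    (MvPolynomial.IsHomogeneous.sum _ _ _ fun k hk => ?_)
  · rw [Finset.mem_range] at hk
    have h := (((hX 2).pow k).mul ((hX 1).pow (m - k))).C_mul (a k)
    rw [show 1 * k + 1 * (m - k) = m by omega] at h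
    exact h
  · rw [Finset.mem_range] at hk
    have h := ((hX 0).mul (((hX 2).pow k).mul ((hX 1).pow (m - 1 - k)))).C_mul (b k)
    rw [show 1 + (1 * k + 1 * (m - 1 - k)) = m by omega] at h
    exact h

theorem nf_add (m : ℕ) (a b a' b' : ℕ → A) : nf m a b + nf m a' b' = nf m (a + a') (b + b') := by
  simp only [nf, Pi.add_apply, map_add, add_mul, Finset.sum_add_distrib]
  ring

theorem nf_zero (m : ℕ) : nf m (0 : ℕ → A) 0 = 0 := by
  simp [nf]

theorem nf_smul (m : ℕ) (r : A) (a b : ℕ → A) :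
    MvPolynomial.C r * nf m a b = nf m (fun k => r * a k) (fun k => r * b k) := by
  simp only [nf, mul_add, Finset.mul_sum, map_mul, mul_assoc]

theorem map_nf {A' : Type v} [CommRing A'] (g : A →+* A') (m : ℕ) (a b : ℕ → A) :
    (nf m a b).map g = nf m (fun k => g (a k)) (fun k => g (b k)) := by
  simp [nf]

/-- Being a normal form modulo `qf c`. -/
def Red (c : Fin 5 → A) (m : ℕ) (F : MvPolynomial (Fin 3) A) : Prop :=
  ∃ (H : MvPolynomial (Fin 3) A) (a b : ℕ → A), F = H * qf c + nf m a b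

theorem Red.add {c : Fin 5 → A} {m : ℕ} {F G : MvPolynomial (Fin 3) A} (hF : Red c m F) (hG : Red c m G) :
    Red c m (F + G) := by
  obtain ⟨H, a, b, rfl⟩ := hF
  obtain ⟨H', a', b', rfl⟩ := hG
  refine ⟨H + H', a + a', b + b', ?_⟩
  rw [← nf_add]
  ring

theorem Red.smul {c : Fin 5 → A} {m : ℕ} {F : MvPolynomial (Fin 3) A} (hF : Red c m F) (r : A) :
    Red c m (MvPolynomial.C r * F) := by
  obtain ⟨H, a, b, rfl⟩ := hF
  refine ⟨MvPolynomial.C r * H, fun k => r * a k, fun k => r * b k, ?_⟩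
  rw [mul_add, nf_smul, mul_assoc]

theorem Red.zero (c : Fin 5 → A) (m : ℕ) : Red c m 0 := ⟨0, 0, 0, by rw [nf_zero]; ring⟩

theorem Red.sum {c : Fin 5 → A} {m : ℕ} {κ : Type*} (S : Finset κ) (F : κ → MvPolynomial (Fin 3) A)
    (h : ∀ i ∈ S, Red c m (F i)) : Red c m (∑ i ∈ S, F i) := by
  classical
  induction S using Finset.induction_on with
  | empty => simpa using Red.zero c m
  | insert i S hi ih =>
    rw [Finset.sum_insert hi]
    exact (h i (Finset.mem_insert_self i S)).add (ih fun j hj => h j (Finset.mem_insert_of_mem hj))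

theorem Red.mul_qf {c : Fin 5 → A} {m : ℕ} {F : MvPolynomial (Fin 3) A} (hF : Red c m F)
    (H : MvPolynomial (Fin 3) A) : Red c m (H * qf c + F) := by
  obtain ⟨H', a, b, rfl⟩ := hF
  exact ⟨H + H', a, b, by ring⟩

theorem red_monomial (c : Fin 5 → A) (e₀ : ℕ) : ∀ (m e₁ e₂ : ℕ), e₀ + e₁ + e₂ = m →
    Red c m (MvPolynomial.X 0 ^ e₀ * MvPolynomial.X 1 ^ e₁ * MvPolynomial.X 2 ^ e₂) := by
  induction e₀ using Nat.strong_induction_on with
  | _ e₀ ih =>
    intro m e₁ e₂ hm
    rcases Nat.lt_or_ge e₀ 2 with h0 | h0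
    · interval_cases e₀
      · refine ⟨0, fun k => if k = e₂ then 1 else 0, 0, ?_⟩
        rw [nf, Finset.sum_eq_single e₂]
        · simp only [if_true, map_one, Pi.zero_apply, map_zero, zero_mul, Finset.sum_const_zero]
          rw [show m - e₂ = e₁ by omega]
          ring
        · intro k _ hk
          rw [if_neg hk]
          simp
        · intro hk
          rw [Finset.mem_range] at hk
          omega
      · refine ⟨0, 0, fun k => if k = e₂ then 1 else 0, ?_⟩
        rw [nf, Finset.sum_eq_single (s := Finset.range m) e₂]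
        · simp only [if_true, map_one, Pi.zero_apply, map_zero, zero_mul, Finset.sum_const_zero]
          rw [show m - 1 - e₂ = e₁ by omega]
          ring
        · intro k _ hk
          rw [if_neg hk]
          simp
        · intro hk
          rw [Finset.mem_range] at hk
          omega
    · obtain ⟨e, rfl⟩ : ∃ e, e₀ = e + 2 := ⟨e₀ - 2, by omega⟩
      have key : MvPolynomial.X 0 ^ (e + 2) * MvPolynomial.X 1 ^ e₁ * MvPolynomial.X 2 ^ e₂ =
          (MvPolynomial.X 0 ^ e * MvPolynomial.X 1 ^ e₁ * MvPolynomial.X 2 ^ e₂) * qf c +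
          (MvPolynomial.C (-(c 0)) * (MvPolynomial.X 0 ^ (e + 1) * MvPolynomial.X 1 ^ (e₁ + 1) * MvPolynomial.X 2 ^ e₂) +
          MvPolynomial.C (-(c 1)) * (MvPolynomial.X 0 ^ (e + 1) * MvPolynomial.X 1 ^ e₁ * MvPolynomial.X 2 ^ (e₂ + 1)) +
          MvPolynomial.C (-(c 2)) * (MvPolynomial.X 0 ^ e * MvPolynomial.X 1 ^ (e₁ + 2) * MvPolynomial.X 2 ^ e₂) +
          MvPolynomial.C (-(c 3)) * (MvPolynomial.X 0 ^ e * MvPolynomial.X 1 ^ (e₁ + 1) *
            MvPolynomial.X 2 ^ (e₂ + 1)) +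
          MvPolynomial.C (-(c 4)) * (MvPolynomial.X 0 ^ e * MvPolynomial.X 1 ^ e₁ *
            MvPolynomial.X 2 ^ (e₂ + 2))) := by
        rw [qf]
        simp only [map_neg]
        ring
      rw [key]
      refine Red.mul_qf ?_ _
      refine Red.add (Red.add (Red.add (Red.add ?_ ?_) ?_) ?_) ?_
      · exact (ih (e + 1) (by omega) m (e₁ + 1) e₂ (by omega)).smul _
      · exact (ih (e + 1) (by omega) m e₁ (e₂ + 1) (by omega)).smul _
      · exact (ih e (by omega) m (e₁ + 2) e₂ (by omega)).smul _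
      · exact (ih e (by omega) m (e₁ + 1) (e₂ + 1) (by omega)).smul _
      · exact (ih e (by omega) m e₁ (e₂ + 2) (by omega)).smul _

/-- Division with remainder by `qf c`. -/
theorem exists_nf (c : Fin 5 → A) {m : ℕ} {F : MvPolynomial (Fin 3) A} (hF : F.IsHomogeneous m) : Red c m F := by
  rw [F.as_sum]
  refine Red.sum _ _ fun e he => ?_
  have hdeg : e.degree = m := by
    by_contra hcon
    exact (MvPolynomial.mem_support_iff.mp he) (hF.coeff_eq_zero hcon)
  rw [Finsupp.degree_eq_sum, Fin.sum_univ_three] at hdeg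
  have h1 : MvPolynomial.monomial e (F.coeff e) = MvPolynomial.C (F.coeff e) *
      (MvPolynomial.X 0 ^ e 0 * MvPolynomial.X 1 ^ e 1 * MvPolynomial.X 2 ^ e 2) := by
    rw [MvPolynomial.monomial_eq, Finsupp.prod_fintype _ _ (by simp), Fin.prod_univ_three]
  rw [h1]
  exact (red_monomial c (e 0) m (e 1) (e 2) hdeg).smul _

theorem eval₂_nf {R : Type v} [CommRing R] (ρ : A →+* R) (s w : R) (m : ℕ) (a b : ℕ → A) :
    MvPolynomial.eval₂ ρ ![w, 1, s] (nf m a b) =
      Polynomial.eval₂ ρ s (∑ k ∈ Finset.range (m + 1), Polynomial.C (a k) * Polynomial.X ^ k) +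
        Polynomial.eval₂ ρ s (∑ k ∈ Finset.range m, Polynomial.C (b k) * Polynomial.X ^ k) * w := by
  rw [nf, ← MvPolynomial.coe_eval₂Hom, map_add, map_sum, map_sum, Polynomial.eval₂_finsetSum,
    Polynomial.eval₂_finsetSum, Finset.sum_mul]
  congr 1
  · refine Finset.sum_congr rfl fun k _ => ?_
    simp
  · refine Finset.sum_congr rfl fun k _ => ?_
    simp
    ring

/-- Homogeneity of values. -/
theorem eval₂_smul {R : Type v} [CommRing R] {σ : Type*} (ρ : A →+* R) (u : R) (x : σ → R) {m : ℕ}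
    {F : MvPolynomial σ A} (hF : F.IsHomogeneous m) :
    MvPolynomial.eval₂ ρ (fun i => u * x i) F = u ^ m * MvPolynomial.eval₂ ρ x F := by
  rw [MvPolynomial.eval₂_eq, MvPolynomial.eval₂_eq, Finset.mul_sum]
  refine Finset.sum_congr rfl fun e he => ?_
  have hdeg : e.degree = m := by
    by_contra hcon
    exact (MvPolynomial.mem_support_iff.mp he) (hF.coeff_eq_zero hcon)
  simp only [mul_pow, Finset.prod_mul_distrib, Finset.prod_pow_eq_pow_sum]
  rw [show ∑ i ∈ e.support, e i = m from hdeg]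
  ring

theorem eval₂_qf {R : Type v} [CommRing R] (ρ : A →+* R) (c : Fin 5 → A) (x : Fin 3 → R) :
    MvPolynomial.eval₂ ρ x (qf c) = x 0 ^ 2 + ρ (c 0) * (x 0 * x 1) + ρ (c 1) * (x 0 * x 2) + ρ (c 2) * x 1 ^ 2 +
      ρ (c 3) * (x 1 * x 2) + ρ (c 4) * x 2 ^ 2 := by
  rw [qf, ← MvPolynomial.coe_eval₂Hom]
  simp

end Nf

end K949.ConAlg
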